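import Mathlib.RingTheory.Nullstellensatz
import Mathlib.Combinatorics.Pigeonhole
import Mathlib.RingTheory.MvPolynomial.WeightedHomogeneous
import Mathlib.RingTheory.AlgebraicIndependent.TranscendenceBasis
import Mathlib.RingTheory.Algebraic.Integral
import Mathlib.RingTheory.Localization.FractionRing
import Mathlib.LinearAlgebra.Basis.Bilinear
import Mathlib.LinearAlgebra.Dimension.Finrank

/-!
# The lemma of Hopf on nondegenerate bilinear maps over an algebraically closed field
-/

universe u v

noncomputable section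

open MvPolynomial Finset

namespace GrothLib.HopfBound

variable {k : Type u} [Field k] {a b : ℕ}

abbrev S (k : Type u) [Field k] (a b : ℕ) := MvPolynomial (Fin a ⊕ Fin b) k

/-- The product of an `x` and a `y`. -/
def z (p : Fin a × Fin b) : S k a b := X (Sum.inl p.1) * X (Sum.inr p.2)

def wt : Fin a ⊕ Fin b → ℕ × ℕ := Sum.elim (fun _ => (1, 0)) (fun _ => (0, 1))

theorem isWeightedHomogeneous_z (p : Fin a × Fin b) :
    IsWeightedHomogeneous (wt (a := a) (b := b)) (z (k := k) p) (1, 1) :=
  (isWeightedHomogeneous_X k wt (Sum.inl p.1)).mul (isWeightedHomogeneous_X k wt (Sum.inr p.2))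

theorem weight_wt (d : Fin a ⊕ Fin b →₀ ℕ) :
    Finsupp.weight wt d = (∑ i, d (Sum.inl i), ∑ j, d (Sum.inr j)) := by
  rw [Finsupp.weight_apply, Finsupp.sum_fintype _ _ (by simp), Fintype.sum_sum_type]
  simp [wt, Prod.ext_iff, Prod.fst_sum, Prod.snd_sum]

/-- Products of `n` of the `z`. -/
def words (n : ℕ) : Submodule k (S k a b) :=
  Submodule.span k (Set.range fun w : Fin n → Fin a × Fin b => ∏ t, z (w t))

theorem mem_words_monomial : ∀ (n : ℕ) (d : Fin a ⊕ Fin b →₀ ℕ), Finsupp.weight wt d = (n, n) →
    monomial d (1 : k) ∈ words (k := k) (a := a) (b := b) n := by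
  intro n
  induction n with
  | zero =>
    intro d hd
    rw [weight_wt, Prod.ext_iff] at hd
    simp only [Finset.sum_eq_zero_iff, Finset.mem_univ, true_implies] at hd
    have : d = 0 := by
      ext (i | j)
      · exact hd.1 i
      · exact hd.2 j
    subst this
    exact Submodule.subset_span ⟨Fin.elim0, by simp⟩
  | succ n ih =>
    intro d hd
    rw [weight_wt, Prod.ext_iff] at hd
    obtain ⟨i, -, hi⟩ := Finset.exists_ne_zero_of_sum_ne_zero (s := Finset.univ) (f := fun i => d (Sum.inl i))
      (by rw [show ∑ i, d (Sum.inl i) = n + 1 from hd.1]; omega)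
    obtain ⟨j, -, hj⟩ := Finset.exists_ne_zero_of_sum_ne_zero (s := Finset.univ) (f := fun j => d (Sum.inr j))
      (by rw [show ∑ j, d (Sum.inr j) = n + 1 from hd.2]; omega)
    obtain ⟨d', rfl⟩ : ∃ d', d = d' + (Finsupp.single (Sum.inl i) 1 + Finsupp.single (Sum.inr j) 1) := by
      refine ⟨d - (Finsupp.single (Sum.inl i) 1 + Finsupp.single (Sum.inr j) 1), (tsub_add_cancel_of_le ?_).symm⟩
      intro l
      rcases l with l | l
      · simp only [Finsupp.add_apply, Finsupp.single_apply, Sum.inl.injEq, reduceCtorEq, if_false, add_zero]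
        split_ifs with h
        · subst h; omega
        · omega
      · simp only [Finsupp.add_apply, Finsupp.single_apply, Sum.inr.injEq, reduceCtorEq, if_false, zero_add]
        split_ifs with h
        · subst h; omega
        · omega
    have hw : Finsupp.weight wt d' = (n, n) := by
      have h2 : Finsupp.weight wt (d' + (Finsupp.single (Sum.inl i) 1 + Finsupp.single (Sum.inr j) 1)) =
          ((n + 1, n + 1) : ℕ × ℕ) := by
        rw [weight_wt, Prod.ext_iff]; exact hd
      rw [map_add, map_add, Finsupp.weight_single, Finsupp.weight_single] at h2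
      simp only [wt, Sum.elim_inl, Sum.elim_inr, Prod.ext_iff, Prod.fst_add, Prod.snd_add, one_smul] at h2 ⊢
      omega
    have h := ih d' hw
    have hmul : monomial (d' + (Finsupp.single (Sum.inl i) 1 + Finsupp.single (Sum.inr j) 1)) (1 : k) =
        z (i, j) * monomial d' 1 := by
      rw [z, X, X, monomial_mul, monomial_mul, one_mul, one_mul, add_comm]
    rw [hmul]
    have hle : words (k := k) n ≤ (words (k := k) (n + 1)).comap (LinearMap.mulLeft k (z (i, j))) := by
      refine Submodule.span_le.2 ?_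
      rintro _ ⟨w, rfl⟩
      refine Submodule.subset_span ⟨Fin.cons (i, j) w, ?_⟩
      simp [Fin.prod_univ_succ]
    exact hle h

theorem component_mem_words (n : ℕ) (g : S k a b) :
    weightedHomogeneousComponent wt (n, n) g ∈ words (k := k) n := by
  classical
  rw [weightedHomogeneousComponent_apply]
  refine Submodule.sum_mem _ fun d hd => ?_
  have h := mem_words_monomial (k := k) n d (Finset.mem_filter.1 hd).2
  have h2 := Submodule.smul_mem _ (coeff d g) h
  rwa [smul_monomial, smul_eq_mul, mul_one] at h2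

theorem component_mul {f : S k a b} (hf : IsWeightedHomogeneous wt f ((1, 1) : ℕ × ℕ)) (n : ℕ)
    (g : S k a b) :
    weightedHomogeneousComponent wt ((n + 1, n + 1) : ℕ × ℕ) (f * g) =
      f * weightedHomogeneousComponent wt (n, n) g := by
  classical
  induction g using MvPolynomial.induction_on' with
  | monomial d r =>
    have hg := isWeightedHomogeneous_monomial (R := k) wt d r (m := Finsupp.weight wt d) rfl
    rw [weightedHomogeneousComponent_of_mem (hf.mul hg), weightedHomogeneousComponent_of_mem hg]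
    by_cases h : ((n, n) : ℕ × ℕ) = Finsupp.weight wt d
    · rw [if_pos h, if_pos (by rw [← h]; ext <;> simp [add_comm])]
    · rw [if_neg h, if_neg, mul_zero]
      intro h'
      apply h
      simp only [Prod.ext_iff, Prod.fst_add, Prod.snd_add] at h' ⊢
      omega
  | add p q hp hq => rw [mul_add, map_add, map_add, hp, hq, mul_add]

variable {m : ℕ}

/-- If the `z` vanish on the common zeros of bilinear forms then they are integral over the forms. -/
theorem isIntegral_z [IsAlgClosed k] (f : Fin m → S k a b)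
    (hf : ∀ l, IsWeightedHomogeneous wt (f l) ((1, 1) : ℕ × ℕ))
    (hzero : ∀ x : Fin a ⊕ Fin b → k, (∀ l, eval x (f l) = 0) →
      ∀ p : Fin a × Fin b, x (Sum.inl p.1) * x (Sum.inr p.2) = 0) (p : Fin a × Fin b) :
    IsIntegral (Algebra.adjoin k (Set.range f)) (z (k := k) p) := by
  classical
  have hrad : ∀ q : Fin a × Fin b, z (k := k) q ∈ (Ideal.span (Set.range f)).radical := by
    intro q
    rw [← vanishingIdeal_zeroLocus_eq_radical (K := k)]
    intro x hx
    simp only [mem_zeroLocus_iff, aeval_eq_eval] at hx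
    have := hzero x (fun l => hx _ (Ideal.subset_span ⟨l, rfl⟩)) q
    simpa [z, aeval_eq_eval] using this
  choose N hN using hrad
  obtain ⟨E, hE⟩ : ∃ E, ∀ q, N q ≤ E + 1 := ⟨Finset.univ.sup N, fun q => (Finset.le_sup (f := N) (Finset.mem_univ q)).trans (Nat.le_succ _)⟩
  let A := Algebra.adjoin k (Set.range f)
  let D := Fintype.card (Fin a × Fin b) * E + 1
  let M : Submodule A (S k a b) :=
    Submodule.span A (Set.range fun w : (Σ n : Fin D, Fin n → Fin a × Fin b) => ∏ t, z (w.2 t))
  have hwords : ∀ n, n < D → ∀ x ∈ words (k := k) (a := a) (b := b) n, x ∈ M := by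
    intro n hn x hx
    have hle : words (k := k) (a := a) (b := b) n ≤ M.restrictScalars k :=
      Submodule.span_le.2 (by rintro _ ⟨w, rfl⟩; exact Submodule.subset_span ⟨⟨⟨n, hn⟩, w⟩, rfl⟩)
    exact hle hx
  have htop : ∀ w : Fin D → Fin a × Fin b, (∏ t, z (k := k) (w t)) ∈ M := by
    intro w
    obtain ⟨q, hq⟩ := Fintype.exists_lt_card_fiber_of_mul_lt_card (n := E) w (by simp [D])
    obtain ⟨T, hT, hTc⟩ := Finset.exists_subset_card_eq (show E + 1 ≤ _ from hq)
    obtain ⟨g, hg⟩ : ∃ g : Fin m → S k a b, ∑ l, g l * f l = z q ^ (E + 1) :=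
      Ideal.mem_span_range_iff_exists_fun.1 (by obtain ⟨e, he⟩ := Nat.exists_eq_add_of_le (hE q); rw [he, pow_add]; exact Ideal.mul_mem_right _ _ (hN q))
    have hpow : IsWeightedHomogeneous wt (z (k := k) q ^ (E + 1)) ((E + 1, E + 1) : ℕ × ℕ) := by
      have := (isWeightedHomogeneous_z (k := k) q).pow (E + 1)
      simpa using this
    have hexp : z (k := k) q ^ (E + 1) =
        ∑ l, f l * weightedHomogeneousComponent wt ((E, E) : ℕ × ℕ) (g l) := by
      have := congrArg (weightedHomogeneousComponent wt ((E + 1, E + 1) : ℕ × ℕ)) hg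
      rw [weightedHomogeneousComponent_of_mem hpow, if_pos rfl, map_sum] at this
      rw [← this]
      exact Finset.sum_congr rfl fun l _ => by rw [mul_comm, component_mul (hf l)]
    have hsplit : (∏ t, z (k := k) (w t)) = z q ^ (E + 1) * ∏ t ∈ Tᶜ, z (w t) := by
      rw [← Finset.prod_mul_prod_compl T, Finset.prod_congr rfl fun t ht =>
        show z (k := k) (w t) = z q by rw [(Finset.mem_filter.1 (hT ht)).2], Finset.prod_const, hTc]
    rw [hsplit, hexp, Finset.sum_mul]
    refine M.sum_mem fun l _ => ?_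
    rw [mul_assoc]
    refine M.smul_mem (⟨f l, Algebra.subset_adjoin ⟨l, rfl⟩⟩ : A) ?_
    have hc := component_mem_words (k := k) E (g l)
    have hle : words (k := k) (a := a) (b := b) E ≤
        (M.restrictScalars k).comap (LinearMap.mulRight k (∏ t ∈ Tᶜ, z (k := k) (w t))) := by
      refine Submodule.span_le.2 ?_
      rintro _ ⟨u, rfl⟩
      show (∏ t, z (u t)) * (∏ t ∈ Tᶜ, z (w t)) ∈ M
      obtain ⟨e, he⟩ : ∃ e : Fin (Tᶜ).card ≃ {x // x ∈ Tᶜ}, True := ⟨(Tᶜ).equivFin.symm, trivial⟩
      refine hwords (E + (Tᶜ).card) ?_ _ (Submodule.subset_span ⟨Fin.append u fun t => w (e t), ?_⟩)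
      · have := Finset.card_compl_add_card T
        rw [Fintype.card_fin, hTc] at this
        omega
      · dsimp only
        rw [Fin.prod_univ_add]
        congr 1
        · exact Finset.prod_congr rfl fun t _ => by rw [Fin.append_left]
        · rw [← Finset.prod_coe_sort Tᶜ, ← Equiv.prod_comp e]
          exact Finset.prod_congr rfl fun t _ => by rw [Fin.append_right]
    exact hle hc
  refine isIntegral_of_smul_mem_submodule M ?_ (Submodule.fg_span (Set.finite_range _)) _ ?_
  · intro h
    have h1 : (1 : S k a b) ∈ M := Submodule.subset_span ⟨⟨⟨0, Nat.succ_pos _⟩, Fin.elim0⟩, by simp⟩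
    rw [h, Submodule.mem_bot] at h1
    exact one_ne_zero h1
  · intro x hx
    induction hx using Submodule.span_induction with
    | mem x hx =>
      obtain ⟨⟨⟨n, hn⟩, w⟩, rfl⟩ := hx
      have h1 : z p * ∏ t, z (k := k) (w t) = ∏ t, z ((Fin.cons p w : Fin (n + 1) → Fin a × Fin b) t) := by
        simp [Fin.prod_univ_succ]
      show z p * _ ∈ M
      rw [h1]
      rcases (Nat.succ_le_of_lt hn).lt_or_eq with h | h
      · exact hwords (n + 1) h _ (Submodule.subset_span ⟨_, rfl⟩)
      · change n + 1 = D at h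
        have := htop fun t => (Fin.cons p w : Fin (n + 1) → Fin a × Fin b) (Fin.cast h.symm t)
        rwa [← Equiv.prod_comp (finCongr h.symm)]
    | zero => rw [smul_zero]; exact M.zero_mem
    | add x y _ _ hx hy => rw [smul_add]; exact M.add_mem hx hy
    | smul c x _ hx => rw [smul_comm]; exact M.smul_mem c hx

theorem card_le_of_isIntegral (i₀ : Fin a) (j₀ : Fin b) (f : Fin m → S k a b)
    (hint : ∀ p : Fin a × Fin b, IsIntegral (Algebra.adjoin k (Set.range f)) (z (k := k) p)) : a + b ≤ m + 1 := by
  classical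
  let K := FractionRing (S k a b)
  let φ : S k a b →ₐ[k] K := IsScalarTower.toAlgHom k (S k a b) K
  have hφ : Function.Injective φ := IsFractionRing.injective (S k a b) K
  let s : Set K := insert (φ (X (Sum.inl i₀))) (Set.range fun l => φ (f l))
  let B := Algebra.adjoin k s
  have hz : ∀ p, IsAlgebraic B (φ (z p)) := by
    intro p
    have hle : ∀ y ∈ Algebra.adjoin k (Set.range f), φ y ∈ B := by
      intro y hy
      have : φ y ∈ (Algebra.adjoin k (Set.range f)).map φ := ⟨y, hy, rfl⟩
      rw [AlgHom.map_adjoin] at this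
      refine Algebra.adjoin_mono ?_ this
      rintro _ ⟨_, ⟨l, rfl⟩, rfl⟩
      exact Set.mem_insert_of_mem _ ⟨l, rfl⟩
    let ψ : Algebra.adjoin k (Set.range f) →+* B :=
      { toFun := fun y => ⟨φ y, hle y y.2⟩
        map_one' := Subtype.ext (map_one φ)
        map_mul' := fun y y' => Subtype.ext (map_mul φ _ _)
        map_zero' := Subtype.ext (map_zero φ)
        map_add' := fun y y' => Subtype.ext (map_add φ _ _) }
    exact (IsIntegral.map_of_comp_eq ψ φ.toRingHom (RingHom.ext fun y => rfl) (hint p)).isAlgebraic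
  let L := Subalgebra.algebraicClosure B K
  have hdiv : ∀ x y : K, x ∈ L → y ∈ L → x / y ∈ L := fun x y hx hy => by
    rw [div_eq_mul_inv]; exact L.mul_mem hx (IsAlgebraic.inv hy)
  have hx0 : φ (X (Sum.inl i₀)) ∈ L := isAlgebraic_algebraMap (⟨_, Algebra.subset_adjoin (Set.mem_insert _ _)⟩ : B)
  have hne : ∀ v, φ (X v) ≠ 0 := fun v h => X_ne_zero v (hφ (h.trans (map_zero φ).symm))
  have hy : ∀ j, φ (X (Sum.inr j)) ∈ L := fun j => by
    have : φ (X (Sum.inr j)) = φ (z (i₀, j)) / φ (X (Sum.inl i₀)) := by
      rw [z, map_mul, mul_div_cancel_left₀ _ (hne _)]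
    rw [this]
    exact hdiv _ _ (hz _) hx0
  have hx : ∀ i, φ (X (Sum.inl i)) ∈ L := fun i => by
    have : φ (X (Sum.inl i)) = φ (z (i, j₀)) / φ (X (Sum.inr j₀)) := by
      rw [z, map_mul, mul_div_cancel_right₀ _ (hne _)]
    rw [this]
    exact hdiv _ _ (hz _) (hy _)
  have hS : ∀ g, φ g ∈ L := fun g => by
    induction g using MvPolynomial.induction_on with
    | C c => exact isAlgebraic_algebraMap (⟨φ (C c), by rw [show φ (C c) = algebraMap k K c from φ.commutes c]; exact B.algebraMap_mem c⟩ : B)
    | add p q hp hq => rw [map_add]; exact L.add_mem hp hq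
    | mul_X p v hp =>
      rw [map_mul]
      refine L.mul_mem hp ?_
      rcases v with v | v
      · exact hx v
      · exact hy v
  haveI : Algebra.IsAlgebraic B K := ⟨fun x => by
    obtain ⟨g, h, -, rfl⟩ := IsFractionRing.div_surjective (A := S k a b) x
    exact hdiv _ _ (hS g) (hS h)⟩
  have h1 : Algebra.trdeg k K ≤ Cardinal.mk s := Algebra.IsAlgebraic.trdeg_le_cardinalMk k s
  have hind : AlgebraicIndependent k (fun v : Fin a ⊕ Fin b => φ (X v)) :=
    (algebraicIndependent_X (Fin a ⊕ Fin b) k).map' hφ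
  have h2 := hind.lift_cardinalMk_le_trdeg
  simp only [Cardinal.mk_sum, Cardinal.mk_fin, Cardinal.lift_id'] at h2
  have h3 : Cardinal.mk s ≤ ((m + 1 : ℕ) : Cardinal) := by
    have : s.Finite := (Set.finite_range _).insert _
    rw [← Set.cast_ncard this]
    refine Nat.cast_le.2 ((Set.ncard_insert_le _ _).trans (Nat.add_le_add_right ?_ 1))
    rw [← Set.image_univ]
    exact (Set.ncard_image_le Set.finite_univ).trans (by simp)
  have h4 := h2.trans (h1.trans h3)
  simp only [Cardinal.lift_natCast, ← Nat.cast_add] at h4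
  exact_mod_cast h4

theorem card_le [IsAlgClosed k] {m : ℕ} (i₀ : Fin a) (j₀ : Fin b) (c : Fin m → Fin a → Fin b → k)
    (hzero : ∀ (u : Fin a → k) (v : Fin b → k), (∀ l, ∑ i, ∑ j, c l i j * (u i * v j) = 0) → u = 0 ∨ v = 0) : a + b ≤ m + 1 := by
  let f : Fin m → S k a b := fun l => ∑ i, ∑ j, C (c l i j) * z (i, j)
  refine card_le_of_isIntegral i₀ j₀ f (isIntegral_z f (fun l => ?_) fun x hx p => ?_)
  · refine IsWeightedHomogeneous.sum _ _ _ fun i _ => IsWeightedHomogeneous.sum _ _ _ fun j _ => ?_
    simpa using (isWeightedHomogeneous_C wt (c l i j)).mul (isWeightedHomogeneous_z (k := k) (i, j))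
  · rcases hzero (fun i => x (Sum.inl i)) (fun j => x (Sum.inr j)) fun l => by simpa [f, z] using hx l with h | h
    · rw [show x (Sum.inl p.1) = 0 from congrFun h p.1, zero_mul]
    · rw [show x (Sum.inr p.2) = 0 from congrFun h p.2, mul_zero]

open Module in
/-- The lemma of Hopf. -/
theorem finrank_add_le [IsAlgClosed k] {U V W : Type*} [AddCommGroup U] [Module k U] [AddCommGroup V]
    [Module k V] [AddCommGroup W] [Module k W] [FiniteDimensional k U] [FiniteDimensional k V]
    [FiniteDimensional k W] [Nontrivial U] [Nontrivial V] (f : U →ₗ[k] V →ₗ[k] W)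
    (h : ∀ u v, f u v = 0 → u = 0 ∨ v = 0) : finrank k U + finrank k V ≤ finrank k W + 1 := by
  let bU := finBasis k U
  let bV := finBasis k V
  let bW := finBasis k W
  refine card_le ⟨0, finrank_pos⟩ ⟨0, finrank_pos⟩ (fun l i j => bW.repr (f (bU i) (bV j)) l) fun u v huv => ?_
  have hf : f (∑ i, u i • bU i) (∑ j, v j • bV j) = 0 := by
    refine bW.repr.injective (Finsupp.ext fun l => ?_)
    rw [map_zero, Finsupp.zero_apply, ← huv l]
    simp [map_sum, LinearMap.sum_apply, Finsupp.finsetSum_apply, Finset.mul_sum, mul_comm, mul_left_comm]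
    rw [Finset.sum_comm]
    refine Finset.sum_congr rfl fun i _ => Finset.sum_congr rfl fun j _ => ?_
    ring
  rcases h _ _ hf with h | h
  · exact Or.inl (funext fun i => Fintype.linearIndependent_iff.1 bU.linearIndependent u h i)
  · exact Or.inr (funext fun j => Fintype.linearIndependent_iff.1 bV.linearIndependent v h j)

end GrothLib.HopfBound
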